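import Mathlib

/-!
# An elementary abelian subgroup of order 81 all of whose elements commute with involutions

Abstract part of the argument for the O'Nan group.
-/

set_option autoImplicit false

namespace Cfsg.Agent.R04.ThreeAbs

open scoped Pointwise

variable {G : Type*} [Group G]

/-- `y ≠ 1` and `y` commutes with an involution. -/
def Q (y : G) : Prop := y ≠ 1 ∧ ∃ s : G, orderOf s = 2 ∧ s * y = y * s

theorem Q.conj {y : G} (h : Q y) (r : G) : Q (r * y * r⁻¹) := by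
  obtain ⟨h1, s, hs, hc⟩ := h
  refine ⟨?_, r * s * r⁻¹, ?_, ?_⟩
  · intro h0
    apply h1
    have : y = r⁻¹ * (r * y * r⁻¹) * r := by group
    rw [this, h0]; group
  · have : orderOf (MulAut.conj r s) = orderOf s := MulEquiv.orderOf_eq _ _
    rw [MulAut.conj_apply] at this
    rw [this, hs]
  · calc r * s * r⁻¹ * (r * y * r⁻¹) = r * (s * y) * r⁻¹ := by group
      _ = r * (y * s) * r⁻¹ := by rw [hc]
      _ = r * y * r⁻¹ * (r * s * r⁻¹) := by group

theorem Q.of_conj {y r : G} (h : Q (r * y * r⁻¹)) : Q y := by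
  have := h.conj r⁻¹
  have e : r⁻¹ * (r * y * r⁻¹) * r⁻¹⁻¹ = y := by group
  rwa [e] at this

/-- The relations. -/
structure Data (a b e f p q : G) : Prop where
  aa : a * a = 1
  bb : b * b = 1
  ee : e * e = 1
  ff : f * f = 1
  ab3 : (a * b) ^ 3 = 1
  fe3 : (f * e) ^ 3 = 1
  ae : a * e = e * a
  be : b * e = e * b
  bf : b * f = f * b
  pp : p * p = a
  qq : q * q = f
  pe : p * e = e * p
  qb : q * b = b * q
  pq : p * q = q * p
  c12 : (a * b) * (p * (a * b) * p⁻¹) = (p * (a * b) * p⁻¹) * (a * b)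
  c34 : (f * e) * (q * (f * e) * q⁻¹) = (q * (f * e) * q⁻¹) * (f * e)

/-- one step of the rotation by `p` -/
theorem step {p x₁ x₂ v : G} (h12 : Commute x₁ x₂) (h1 : p * x₁ * p⁻¹ = x₂)
    (h2 : p * x₂ * p⁻¹ = x₁ ^ 2) (hv : Commute p v) {i j : ℕ} (h : Q (x₁ ^ i * x₂ ^ j * v)) :
    Q (x₁ ^ (2 * j) * x₂ ^ i * v) := by
  have := h.conj p
  have e : p * (x₁ ^ i * x₂ ^ j * v) * p⁻¹ = x₁ ^ (2 * j) * x₂ ^ i * v := by
    calc p * (x₁ ^ i * x₂ ^ j * v) * p⁻¹
        = (p * x₁ ^ i * p⁻¹) * (p * x₂ ^ j * p⁻¹) * (p * v * p⁻¹) := by group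
      _ = (p * x₁ * p⁻¹) ^ i * (p * x₂ * p⁻¹) ^ j * v := by
          rw [conj_pow, conj_pow, hv.eq, mul_inv_cancel_right]
      _ = x₂ ^ i * x₁ ^ (2 * j) * v := by rw [h1, h2, pow_mul]
      _ = x₁ ^ (2 * j) * x₂ ^ i * v := by
          rw [((h12.symm.pow_pow i (2 * j))).eq]
  rwa [e] at this

theorem pow_mod3 {x : G} (hx : x ^ 3 = 1) (n : ℕ) : x ^ n = x ^ (n % 3) := by
  conv_lhs => rw [← Nat.div_add_mod n 3, pow_add, pow_mul, hx, one_pow, one_mul]

/-- All non-zero exponents. -/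
theorem all_of {p x₁ x₂ v : G} (h12 : Commute x₁ x₂) (h1 : p * x₁ * p⁻¹ = x₂)
    (h2 : p * x₂ * p⁻¹ = x₁ ^ 2) (hx : x₁ ^ 3 = 1) (hv : Commute p v)
    (ha : Q (x₁ * v)) (hb : Q (x₁ * x₂ * v)) (i j : ℕ) (hi : i < 3) (hj : j < 3)
    (hij : i ≠ 0 ∨ j ≠ 0) : Q (x₁ ^ i * x₂ ^ j * v) := by
  have hx2 : x₂ ^ 3 = 1 := by
    rw [← h1, conj_pow, hx, mul_one, mul_inv_cancel]
  have q10 : Q (x₁ ^ 1 * x₂ ^ 0 * v) := by simpa using ha
  have q01 : Q (x₁ ^ 0 * x₂ ^ 1 * v) := step h12 h1 h2 hv q10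
  have q20 : Q (x₁ ^ 2 * x₂ ^ 0 * v) := step h12 h1 h2 hv q01
  have q02 : Q (x₁ ^ 0 * x₂ ^ 2 * v) := step h12 h1 h2 hv q20
  have q11 : Q (x₁ ^ 1 * x₂ ^ 1 * v) := by simpa using hb
  have q21 : Q (x₁ ^ 2 * x₂ ^ 1 * v) := step h12 h1 h2 hv q11
  have q22 : Q (x₁ ^ 2 * x₂ ^ 2 * v) := step h12 h1 h2 hv q21
  have q12 : Q (x₁ ^ 1 * x₂ ^ 2 * v) := by
    have := step h12 h1 h2 hv q22
    rwa [pow_mod3 hx (2 * 2)] at this
  interval_cases i <;> interval_cases j
  · rcases hij with h | h <;> exact absurd rfl h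
  all_goals assumption

/-- The involutions which have to be exhibited. -/
structure Inv (x₁ x₂ x₃ x₄ : G) : Prop where
  q13 : ∃ s : G, orderOf s = 2 ∧ s * (x₁ * x₃) = x₁ * x₃ * s
  q123 : ∃ s : G, orderOf s = 2 ∧ s * (x₁ * x₂ * x₃) = x₁ * x₂ * x₃ * s
  q134 : ∃ s : G, orderOf s = 2 ∧ s * (x₁ * x₃ * x₄) = x₁ * x₃ * x₄ * s
  q1234 : ∃ s : G, orderOf s = 2 ∧ s * (x₁ * x₂ * x₃ * x₄) = x₁ * x₂ * x₃ * x₄ * s

section

variable {a b e f p q : G} (D : Data a b e f p q)

include D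

theorem Data.pf : p * f = f * p := by
  rw [← D.qq, ← mul_assoc, D.pq, mul_assoc, D.pq, ← mul_assoc]

theorem Data.qa : q * a = a * q := by
  rw [← D.pp, ← mul_assoc, ← D.pq, mul_assoc, ← D.pq, ← mul_assoc]

theorem Data.af : a * f = f * a := by
  have h : Commute a f := by
    rw [← D.pp]
    exact Commute.mul_left (show Commute p f from D.pf) (show Commute p f from D.pf)
  exact h.eq

theorem Data.inv_ab : (a * b) ^ 2 = b * a := by
  have h1 : (a * b) * (b * a) = 1 := by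
    rw [show a * b * (b * a) = a * (b * b) * a by group, D.bb, mul_one, D.aa]
  have h2 : (a * b) ^ 2 * (a * b) = 1 := by rw [← pow_succ]; exact D.ab3
  calc (a * b) ^ 2 = (a * b) ^ 2 * ((a * b) * (b * a)) := by rw [h1, mul_one]
    _ = (a * b) ^ 2 * (a * b) * (b * a) := by group
    _ = b * a := by rw [h2, one_mul]

theorem Data.conj_ab : a * (a * b) * a⁻¹ = (a * b) ^ 2 := by
  have ha : a⁻¹ = a := inv_eq_of_mul_eq_one_right D.aa
  rw [D.inv_ab, ha, show a * (a * b) * a = (a * a) * (b * a) by group, D.aa, one_mul]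

theorem Data.inv_fe : (f * e) ^ 2 = e * f := by
  have h1 : (f * e) * (e * f) = 1 := by
    rw [show f * e * (e * f) = f * (e * e) * f by group, D.ee, mul_one, D.ff]
  have h2 : (f * e) ^ 2 * (f * e) = 1 := by rw [← pow_succ]; exact D.fe3
  calc (f * e) ^ 2 = (f * e) ^ 2 * ((f * e) * (e * f)) := by rw [h1, mul_one]
    _ = (f * e) ^ 2 * (f * e) * (e * f) := by group
    _ = e * f := by rw [h2, one_mul]

theorem Data.conj_fe : f * (f * e) * f⁻¹ = (f * e) ^ 2 := by
  have hf : f⁻¹ = f := inv_eq_of_mul_eq_one_right D.ff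
  rw [D.inv_fe, hf, show f * (f * e) * f = (f * f) * (e * f) by group, D.ff, one_mul]

theorem Data.px2 : p * (p * (a * b) * p⁻¹) * p⁻¹ = (a * b) ^ 2 := by
  rw [← D.conj_ab, ← D.pp]; group

theorem Data.qx4 : q * (q * (f * e) * q⁻¹) * q⁻¹ = (f * e) ^ 2 := by
  rw [← D.conj_fe, ← D.qq]; group

theorem Data.comm_a_3 : Commute a (f * e) :=
  Commute.mul_right (show Commute a f from D.af) (show Commute a e from D.ae)

theorem Data.comm_p_3 : Commute p (f * e) :=
  Commute.mul_right (show Commute p f from D.pf) (show Commute p e from D.pe)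

theorem Data.comm_q_1 : Commute q (a * b) :=
  Commute.mul_right (show Commute q a from D.qa) (show Commute q b from D.qb)

theorem Data.comm_b_3 : Commute b (f * e) :=
  Commute.mul_right (show Commute b f from D.bf) (show Commute b e from D.be)

theorem Data.comm_f_1 : Commute f (a * b) :=
  Commute.mul_right (show Commute f a from D.af.symm) (show Commute f b from D.bf.symm)

theorem Data.comm_p_q : Commute p q := D.pq

theorem Data.comm_p_4 : Commute p (q * (f * e) * q⁻¹) :=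
  (D.comm_p_q.mul_right D.comm_p_3).mul_right D.comm_p_q.inv_right

theorem Data.comm_q_2 : Commute q (p * (a * b) * p⁻¹) :=
  (D.comm_p_q.symm.mul_right D.comm_q_1).mul_right D.comm_p_q.symm.inv_right

theorem Data.comm_1_3 : Commute (a * b) (f * e) := D.comm_a_3.mul_left D.comm_b_3

theorem Data.comm_1_4 : Commute (a * b) (q * (f * e) * q⁻¹) :=
  (D.comm_q_1.symm.mul_right D.comm_1_3).mul_right D.comm_q_1.symm.inv_right

theorem Data.comm_2_3 : Commute (p * (a * b) * p⁻¹) (f * e) :=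
  (D.comm_p_3.mul_left D.comm_1_3).mul_left D.comm_p_3.inv_left

theorem Data.comm_2_4 : Commute (p * (a * b) * p⁻¹) (q * (f * e) * q⁻¹) :=
  (D.comm_p_4.mul_left D.comm_1_4).mul_left D.comm_p_4.inv_left

theorem Data.comm_f_2 : Commute f (p * (a * b) * p⁻¹) :=
  ((show Commute f p from D.pf.symm).mul_right D.comm_f_1).mul_right
    (show Commute f p from D.pf.symm).inv_right

theorem Data.comm_a_4 : Commute a (q * (f * e) * q⁻¹) :=
  ((show Commute a q from D.qa.symm).mul_right D.comm_a_3).mul_right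
    (show Commute a q from D.qa.symm).inv_right

omit D in
theorem eq_one_of_sq_cube {x : G} (h2 : x ^ 2 = 1) (h3 : x ^ 3 = 1) : x = 1 := by
  have : x ^ 3 = x := by rw [pow_succ, h2, one_mul]
  rw [← this, h3]

omit D in
/-- `x y ≠ 1` for `x ≠ 1` inverted by `a` and `y` centralised by `a`. -/
theorem mul_ne_one {x y a : G} (hx : x ≠ 1) (h1 : a * x * a⁻¹ = x ^ 2) (h2 : Commute a y) :
    x * y ≠ 1 := by
  intro h
  have hy : y = x⁻¹ := eq_inv_of_mul_eq_one_right h
  have h3 : a * x * a⁻¹ = x := by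
    have : Commute a x := by
      have := h2.inv_right
      rwa [hy, inv_inv] at this
    rw [this.eq, mul_inv_cancel_right]
  rw [h1] at h3
  apply hx
  have h4 : x ^ 2 = x ^ 1 := by rw [pow_one]; exact h3
  calc x = x ^ 2 * x⁻¹ := by rw [pow_two, mul_inv_cancel_right]
    _ = 1 := by rw [h4, pow_one, mul_inv_cancel]

theorem Data.conj_a_2 : a * (p * (a * b) * p⁻¹) * a⁻¹ = (p * (a * b) * p⁻¹) ^ 2 := by
  have hap : Commute a p := by rw [← D.pp]; exact (Commute.refl p).mul_left (Commute.refl p)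
  calc a * (p * (a * b) * p⁻¹) * a⁻¹ = (a * p) * (a * b) * (a * p)⁻¹ := by group
    _ = (p * a) * (a * b) * (p * a)⁻¹ := by rw [hap.eq]
    _ = p * (a * (a * b) * a⁻¹) * p⁻¹ := by group
    _ = p * (a * b) ^ 2 * p⁻¹ := by rw [D.conj_ab]
    _ = _ := by rw [← conj_pow]

theorem Data.x12_ne (h1 : a * b ≠ 1) : (a * b) * (p * (a * b) * p⁻¹) ≠ 1 := by
  intro h
  have hx2 : p * (a * b) * p⁻¹ = (a * b)⁻¹ := eq_inv_of_mul_eq_one_right h
  have h2 := D.px2
  rw [hx2] at h2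
  have h3 : p * (a * b)⁻¹ * p⁻¹ = (p * (a * b) * p⁻¹)⁻¹ := by group
  rw [h3, hx2, inv_inv] at h2
  apply h1
  calc a * b = (a * b) ^ 2 * (a * b)⁻¹ := by rw [pow_two, mul_inv_cancel_right]
    _ = 1 := by rw [← h2, mul_inv_cancel]

theorem Data.x34_ne (h1 : f * e ≠ 1) : (f * e) * (q * (f * e) * q⁻¹) ≠ 1 := by
  intro h
  have hx2 : q * (f * e) * q⁻¹ = (f * e)⁻¹ := eq_inv_of_mul_eq_one_right h
  have h2 := D.qx4
  rw [hx2] at h2
  have h3 : q * (f * e)⁻¹ * q⁻¹ = (q * (f * e) * q⁻¹)⁻¹ := by group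
  rw [h3, hx2, inv_inv] at h2
  apply h1
  calc f * e = (f * e) ^ 2 * (f * e)⁻¹ := by rw [pow_two, mul_inv_cancel_right]
    _ = 1 := by rw [← h2, mul_inv_cancel]

/-- the general element -/
def el (a b e f p q : G) (i j k l : ℕ) : G :=
  (a * b) ^ i * (p * (a * b) * p⁻¹) ^ j * ((f * e) ^ k * (q * (f * e) * q⁻¹) ^ l)

theorem Data.cube2 : (p * (a * b) * p⁻¹) ^ 3 = 1 := by
  rw [conj_pow, D.ab3, mul_one, mul_inv_cancel]

theorem Data.cube4 : (q * (f * e) * q⁻¹) ^ 3 = 1 := by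
  rw [conj_pow, D.fe3, mul_one, mul_inv_cancel]

theorem Data.el_mod (i j k l : ℕ) :
    el a b e f p q i j k l = el a b e f p q (i % 3) (j % 3) (k % 3) (l % 3) := by
  unfold el
  rw [pow_mod3 D.ab3 i, pow_mod3 D.cube2 j, pow_mod3 D.fe3 k, pow_mod3 D.cube4 l]

theorem Data.Q_el (hab : a * b ≠ 1) (hfe : f * e ≠ 1) (ha : a ≠ 1) (hf : f ≠ 1)
    (I : Inv (a * b) (p * (a * b) * p⁻¹) (f * e) (q * (f * e) * q⁻¹)) (i j k l : ℕ)
    (hi : i < 3) (hj : j < 3) (hk : k < 3) (hl : l < 3)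
    (h : i ≠ 0 ∨ j ≠ 0 ∨ k ≠ 0 ∨ l ≠ 0) : Q (el a b e f p q i j k l) := by
  have c12 : Commute (a * b) (p * (a * b) * p⁻¹) := D.c12
  have c34 : Commute (f * e) (q * (f * e) * q⁻¹) := D.c34
  have ord : ∀ {x : G}, x ≠ 1 → x * x = 1 → orderOf x = 2 := fun {x} h1 h2 =>
    orderOf_eq_prime (by rw [pow_two, h2]) h1
  have oa := ord ha D.aa
  have of := ord hf D.ff
  unfold el
  by_cases hij : i ≠ 0 ∨ j ≠ 0
  · -- rotate by `p`
    by_cases hkl : k ≠ 0 ∨ l ≠ 0
    · have key : ∀ u : G, Commute q u → Q (u * (f * e)) → Q (u * ((f * e) * (q * (f * e) * q⁻¹))) →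
          Q (u * ((f * e) ^ k * (q * (f * e) * q⁻¹) ^ l)) := by
        intro u hu h1 h2
        -- use `all_of` for `q` with the roles exchanged
        have hinv : ∀ y : G, Q (y * u) ↔ Q (u * y) := by
          intro y
          constructor
          · intro h
            have := h.conj u
            have e1 : u * (y * u) * u⁻¹ = u * y := by group
            rwa [e1] at this
          · intro h
            have := h.conj u⁻¹
            have e1 : u⁻¹ * (u * y) * u⁻¹⁻¹ = y * u := by group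
            rwa [e1] at this
        rw [← hinv]
        exact all_of c34 rfl D.qx4 D.fe3 hu ((hinv _).2 h1) ((hinv _).2 h2) k l hk hl hkl
      have p34 : ∀ m n : ℕ, Commute p ((f * e) ^ m * (q * (f * e) * q⁻¹) ^ n) := fun m n =>
        (D.comm_p_3.pow_right m).mul_right (D.comm_p_4.pow_right n)
      -- for `u = x₁`, `u = x₁ x₂`
      have hQ : ∀ {x y z : G}, x ≠ 1 → x ^ 3 = 1 → a * x * a⁻¹ = x ^ 2 → Commute a y → z = x * y →
          (∃ s : G, orderOf s = 2 ∧ s * z = z * s) → Q z := by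
        intro x y z h1 h2 h3 h4 h5 h6
        refine ⟨?_, h6⟩
        rw [h5]
        exact mul_ne_one h1 h3 h4
      have hx12 : a * ((a * b) * (p * (a * b) * p⁻¹)) * a⁻¹ = ((a * b) * (p * (a * b) * p⁻¹)) ^ 2 := by
        rw [c12.mul_pow, ← D.conj_a_2, ← D.conj_ab]; group
      have cube12 : ((a * b) * (p * (a * b) * p⁻¹)) ^ 3 = 1 := by
        rw [c12.mul_pow, D.ab3, D.cube2, mul_one]
      refine all_of c12 rfl D.px2 D.ab3 (p34 k l) ?_ ?_ i j hi hj hij
      · refine key _ D.comm_q_1 ?_ ?_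
        · exact hQ hab D.ab3 D.conj_ab D.comm_a_3 rfl I.q13
        · have e1 : a * b * (f * e * (q * (f * e) * q⁻¹)) = a * b * (f * e) * (q * (f * e) * q⁻¹) := by
            group
          exact hQ hab D.ab3 D.conj_ab (D.comm_a_3.mul_right D.comm_a_4) rfl (by rw [e1]; exact I.q134)
      · refine key _ (D.comm_q_1.mul_right D.comm_q_2) ?_ ?_
        · exact hQ (D.x12_ne hab) cube12 hx12 D.comm_a_3 rfl I.q123
        · have e1 : a * b * (p * (a * b) * p⁻¹) * (f * e * (q * (f * e) * q⁻¹)) =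
              a * b * (p * (a * b) * p⁻¹) * (f * e) * (q * (f * e) * q⁻¹) := by group
          exact hQ (D.x12_ne hab) cube12 hx12 (D.comm_a_3.mul_right D.comm_a_4) rfl
            (by rw [e1]; exact I.q1234)
    · push Not at hkl
      obtain ⟨rfl, rfl⟩ := hkl
      refine all_of c12 rfl D.px2 D.ab3 (by simp) ?_ ?_ i j hi hj hij
      · refine ⟨by simpa using hab, f, of, ?_⟩
        simpa using D.comm_f_1.eq
      · refine ⟨by simpa using D.x12_ne hab, f, of, ?_⟩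
        simpa using (D.comm_f_1.mul_right D.comm_f_2).eq
  · push Not at hij
    obtain ⟨rfl, rfl⟩ := hij
    have hkl : k ≠ 0 ∨ l ≠ 0 := by
      rcases h with h | h | h
      · exact absurd rfl h
      · exact absurd rfl h
      · exact h
    have := all_of (v := (1 : G)) c34 rfl D.qx4 D.fe3 (Commute.one_right q)
      ⟨by simpa using hfe, a, oa, by simpa using D.comm_a_3.eq⟩
      ⟨by simpa using D.x34_ne hfe, a, oa, by simpa using (D.comm_a_3.mul_right D.comm_a_4).eq⟩ k l hk hl hkl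
    simpa using this

theorem Data.el_mul (i j k l i' j' k' l' : ℕ) : el a b e f p q i j k l * el a b e f p q i' j' k' l' =
    el a b e f p q (i + i') (j + j') (k + k') (l + l') := by
  have c12 : Commute (a * b) (p * (a * b) * p⁻¹) := D.c12
  have c34 : Commute (f * e) (q * (f * e) * q⁻¹) := D.c34
  have hc : Commute ((f * e) ^ k * (q * (f * e) * q⁻¹) ^ l)
      ((a * b) ^ i' * (p * (a * b) * p⁻¹) ^ j') := by
    refine Commute.mul_left (Commute.mul_right ?_ ?_) (Commute.mul_right ?_ ?_)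
    · exact D.comm_1_3.symm.pow_pow _ _
    · exact D.comm_2_3.symm.pow_pow _ _
    · exact D.comm_1_4.symm.pow_pow _ _
    · exact D.comm_2_4.symm.pow_pow _ _
  unfold el
  rw [pow_add, pow_add, pow_add, pow_add]
  set A := (a * b) with hA
  set B := (p * A * p⁻¹) with hB
  set C := (f * e) with hC
  set E := (q * C * q⁻¹) with hE
  calc A ^ i * B ^ j * (C ^ k * E ^ l) * (A ^ i' * B ^ j' * (C ^ k' * E ^ l'))
      = A ^ i * B ^ j * ((C ^ k * E ^ l) * (A ^ i' * B ^ j')) * (C ^ k' * E ^ l') := by group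
    _ = A ^ i * B ^ j * ((A ^ i' * B ^ j') * (C ^ k * E ^ l)) * (C ^ k' * E ^ l') := by rw [hc.eq]
    _ = A ^ i * (B ^ j * A ^ i') * B ^ j' * (C ^ k * (E ^ l * C ^ k') * E ^ l') := by group
    _ = A ^ i * (A ^ i' * B ^ j) * B ^ j' * (C ^ k * (C ^ k' * E ^ l) * E ^ l') := by
        rw [(c12.symm.pow_pow j i').eq, (c34.symm.pow_pow l k').eq]
    _ = _ := by group

theorem Data.el_inv (i j k l : ℕ) : (el a b e f p q i j k l)⁻¹ =
    el a b e f p q (2 * i) (2 * j) (2 * k) (2 * l) := by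
  apply inv_eq_of_mul_eq_one_right
  rw [D.el_mul]
  have h3 : ∀ n : ℕ, n + 2 * n = 3 * n := fun n => by ring
  rw [h3, h3, h3, h3]
  unfold el
  rw [pow_mul, pow_mul, pow_mul, pow_mul, D.ab3, D.fe3, D.cube2, D.cube4]
  simp

/-- the subgroup -/
def Data.E : Subgroup G where
  carrier := {g | ∃ i j k l : ℕ, g = el a b e f p q i j k l}
  mul_mem' := by
    rintro _ _ ⟨i, j, k, l, rfl⟩ ⟨i', j', k', l', rfl⟩
    exact ⟨_, _, _, _, D.el_mul _ _ _ _ _ _ _ _⟩
  one_mem' := ⟨0, 0, 0, 0, by simp [el]⟩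
  inv_mem' := by
    rintro _ ⟨i, j, k, l, rfl⟩
    exact ⟨_, _, _, _, D.el_inv _ _ _ _⟩

theorem Data.card_E (hab : a * b ≠ 1) (hfe : f * e ≠ 1) (ha : a ≠ 1) (hf : f ≠ 1)
    (I : Inv (a * b) (p * (a * b) * p⁻¹) (f * e) (q * (f * e) * q⁻¹)) : Nat.card D.E = 81 := by
  have hbij : Function.Bijective (fun x : Fin 3 × Fin 3 × Fin 3 × Fin 3 =>
      (⟨el a b e f p q x.1 x.2.1 x.2.2.1 x.2.2.2, ⟨_, _, _, _, rfl⟩⟩ : D.E)) := by
    constructor
    · rintro ⟨i, j, k, l⟩ ⟨i', j', k', l'⟩ h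
      have h0 : el a b e f p q i j k l = el a b e f p q i' j' k' l' := congrArg Subtype.val h
      by_contra hne
      have h1 : el a b e f p q (i + 2 * i') (j + 2 * j') (k + 2 * k') (l + 2 * l') = 1 := by
        rw [← D.el_mul, ← D.el_inv, h0, mul_inv_cancel]
      rw [D.el_mod] at h1
      refine (D.Q_el hab hfe ha hf I _ _ _ _ (Nat.mod_lt _ (by norm_num)) (Nat.mod_lt _ (by norm_num))
        (Nat.mod_lt _ (by norm_num)) (Nat.mod_lt _ (by norm_num)) ?_).1 h1
      by_contra hcon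
      push Not at hcon
      obtain ⟨e1, e2, e3, e4⟩ := hcon
      apply hne
      have aux : ∀ u v : Fin 3, ((u : ℕ) + 2 * v) % 3 = 0 → u = v := by decide
      rw [aux i i' e1, aux j j' e2, aux k k' e3, aux l l' e4]
    · rintro ⟨_, i, j, k, l, rfl⟩
      refine ⟨(⟨i % 3, Nat.mod_lt _ (by norm_num)⟩, ⟨j % 3, Nat.mod_lt _ (by norm_num)⟩,
        ⟨k % 3, Nat.mod_lt _ (by norm_num)⟩, ⟨l % 3, Nat.mod_lt _ (by norm_num)⟩), ?_⟩
      apply Subtype.ext
      exact (D.el_mod i j k l).symm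
  rw [← Nat.card_congr (Equiv.ofBijective _ hbij)]
  simp

/-- Every element of order three commutes with an involution. -/
theorem Data.exists_inv [Finite G] (hab : a * b ≠ 1) (hfe : f * e ≠ 1) (ha : a ≠ 1) (hf : f ≠ 1)
    (I : Inv (a * b) (p * (a * b) * p⁻¹) (f * e) (q * (f * e) * q⁻¹))
    (h81 : ¬ 243 ∣ Nat.card G) (x : G) (hx : orderOf x = 3) :
    ∃ s : G, orderOf s = 2 ∧ s * x = x * s := by
  have : Fact (Nat.Prime 3) := ⟨Nat.prime_three⟩
  have hE := D.card_E hab hfe ha hf I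
  have hfac : (Nat.card G).factorization 3 = 4 := by
    have h1 : 3 ^ 4 ∣ Nat.card G := by
      rw [show 3 ^ 4 = Nat.card D.E by rw [hE]; norm_num]
      exact Subgroup.card_subgroup_dvd_card _
    have h0 : Nat.card G ≠ 0 := Nat.card_pos.ne'
    have h2 := (Nat.Prime.pow_dvd_iff_le_factorization Nat.prime_three h0).1 h1
    have h3 : ¬ 5 ≤ (Nat.card G).factorization 3 := by
      intro h
      apply h81
      have := (Nat.Prime.pow_dvd_iff_le_factorization Nat.prime_three h0).2 h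
      norm_num at this
      exact this
    omega
  let P : Sylow 3 G := Sylow.ofCard D.E (by rw [hfac, hE]; norm_num)
  have hpx : IsPGroup 3 (Subgroup.zpowers x) :=
    IsPGroup.of_card (n := 1) (by rw [Nat.card_zpowers, hx, pow_one])
  obtain ⟨R, hR⟩ := hpx.exists_le_sylow
  obtain ⟨g, hg⟩ := MulAction.exists_smul_eq G P R
  have hxR : x ∈ (R : Subgroup G) := hR (Subgroup.mem_zpowers x)
  rw [← hg] at hxR
  have hxP : g⁻¹ * x * g ∈ D.E := by
    have h1 : x ∈ MulAut.conj g • (P : Subgroup G) := hxR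
    rw [Subgroup.mem_pointwise_smul_iff_inv_smul_mem] at h1
    have h2 : (MulAut.conj g)⁻¹ • x = g⁻¹ * x * g := by
      rw [← map_inv]
      simp [MulAut.smul_def, MulAut.conj_apply]
    rwa [h2] at h1
  obtain ⟨i, j, k, l, hel⟩ := hxP
  rw [D.el_mod] at hel
  have hx1 : x ≠ 1 := by
    intro h
    rw [h, orderOf_one] at hx
    norm_num at hx
  have hne : i % 3 ≠ 0 ∨ j % 3 ≠ 0 ∨ k % 3 ≠ 0 ∨ l % 3 ≠ 0 := by
    by_contra hcon
    push Not at hcon
    obtain ⟨e1, e2, e3, e4⟩ := hcon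
    rw [e1, e2, e3, e4] at hel
    have h1 : g⁻¹ * x * g = 1 := by rw [hel]; simp [el]
    apply hx1
    have : x = g * (g⁻¹ * x * g) * g⁻¹ := by group
    rw [this, h1]; group
  have hQ := D.Q_el hab hfe ha hf I _ _ _ _ (Nat.mod_lt i (by norm_num)) (Nat.mod_lt j (by norm_num))
    (Nat.mod_lt k (by norm_num)) (Nat.mod_lt l (by norm_num)) hne
  rw [← hel] at hQ
  have hQ' : Q (g⁻¹ * x * g⁻¹⁻¹) := by rwa [inv_inv]
  exact hQ'.of_conj.2

end

end Cfsg.Agent.R04.ThreeAbs
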