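import Cfsg.Agent.SporadicB.ON45Word
import Cfsg.Agent.ONType.SecondTuple
import Cfsg.Agent.R04.ThreeAbs
import Cfsg.Agent.R04.ONThreeData

/-!
# Every element of order three of the (presented) O'Nan group commutes with an involution

Explicit Sylow 3-subgroup `⟨ab, (ab)^p, fe, (fe)^q⟩`, `p = f(cg)²`, `q = a(dg)²`; all identities between
words are decided by the 45-dimensional matrices, given that the presented group is simple.
-/

set_option autoImplicit false

namespace Cfsg.Agent.R04.ONThree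

open Cfsg.Spor Cfsg.Spor.ON Cfsg.Agent.Lib.PackMat Cfsg.Agent.SporadicB.ON45Data Cfsg.Agent.SporadicB.ON45Rels
  Cfsg.Agent.SporadicB.ON45Word Cfsg.Agent.R04.ONThreeData Cfsg.Agent.R04.ThreeAbs
open Cfsg.Agent.ONType.SecondTuple (eq_of_check)

/-- `f (c g)²` -/
def p : ON := ([.f, .c, .g, .c, .g].map on).prod
/-- `a (d g)²` -/
def q : ON := ([.a, .d, .g, .d, .g].map on).prod
/-- conjugates `f` to an involution commuting with `x₁ x₃` and `x₁ x₂ x₃ x₄` -/
def u₁ : ON := ([.c, .b, .g, .g, .g, .d, .e, .c, .g, .d, .e, .c, .d, .g, .g, .g, .a, .b, .c, .d, .e].map on).prod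
/-- conjugates `f` to an involution commuting with `x₁ x₂ x₃` -/
def u₂ : ON := ([.c, .b, .d, .e, .c, .d, .c, .g, .g, .g, .e, .a, .b, .g, .d, .c, .d, .e].map on).prod

theorem la : LW (on .a) [gens 0] := LW.gen .a
theorem lb : LW (on .b) [gens 1] := LW.gen .b
theorem le : LW (on .e) [gens 4] := LW.gen .e
theorem lf : LW (on .f) [gens 5] := LW.gen .f
theorem lp : LW p [pp] := (LW.word _).change (by decide +kernel) (by decide +kernel)
theorem lq : LW q [qq] := (LW.word _).change (by decide +kernel) (by decide +kernel)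
theorem lpi : LW p⁻¹ [ppi] := lp.inv (by decide +kernel) (by decide +kernel)
theorem lqi : LW q⁻¹ [qqi] := lq.inv (by decide +kernel) (by decide +kernel)
theorem lu1 : LW u₁ [r1] := (LW.word _).change (by decide +kernel) (by decide +kernel)
theorem lu1i : LW u₁⁻¹ [r1i] := lu1.inv (by decide +kernel) (by decide +kernel)
theorem lu2 : LW u₂ [r2] := (LW.word _).change (by decide +kernel) (by decide +kernel)
theorem lu2i : LW u₂⁻¹ [r2i] := lu2.inv (by decide +kernel) (by decide +kernel)
theorem l1 : LW (on .a * on .b) [y1] := (la.mul lb).change (by decide +kernel) (by decide +kernel)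
theorem l1i : LW (on .a * on .b)⁻¹ [y1i] := l1.inv (by decide +kernel) (by decide +kernel)
theorem l2 : LW (p * (on .a * on .b) * p⁻¹) [y2] :=
  ((lp.mul l1).mul lpi).change (by decide +kernel) (by decide +kernel)
theorem l2i : LW (p * (on .a * on .b) * p⁻¹)⁻¹ [y2i] := l2.inv (by decide +kernel) (by decide +kernel)
theorem l3 : LW (on .f * on .e) [y3] := (lf.mul le).change (by decide +kernel) (by decide +kernel)
theorem l3i : LW (on .f * on .e)⁻¹ [y3i] := l3.inv (by decide +kernel) (by decide +kernel)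
theorem l4 : LW (q * (on .f * on .e) * q⁻¹) [y4] :=
  ((lq.mul l3).mul lqi).change (by decide +kernel) (by decide +kernel)
theorem l4i : LW (q * (on .f * on .e) * q⁻¹)⁻¹ [y4i] := l4.inv (by decide +kernel) (by decide +kernel)

theorem comm_of_scalar (hs : IsSimpleGroup ON) {x y : ON} {l m l' m' : List ℕ} (hx : LW x l) (hy : LW y m)
    (hxi : LW x⁻¹ l') (hyi : LW y⁻¹ m') (h : checkScalar C45 (l ++ m ++ l' ++ m') 4 0 45 = true) :
    x * y = y * x := by
  have h1 : x * y * x⁻¹ * y⁻¹ = 1 := (((hx.mul hy).mul hxi).mul hyi).eq_one hs 4 (by decide) h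
  have h2 : x * y = (x * y * x⁻¹ * y⁻¹) * (y * x) := by group
  rw [h2, h1, one_mul]

theorem data (hs : IsSimpleGroup ON) : Data (on .a) (on .b) (on .e) (on .f) p q where
  aa := (la.mul la).eq_one hs 1 (by decide) (by decide +kernel)
  bb := (lb.mul lb).eq_one hs 1 (by decide) (by decide +kernel)
  ee := (le.mul le).eq_one hs 1 (by decide) (by decide +kernel)
  ff := (lf.mul lf).eq_one hs 1 (by decide) (by decide +kernel)
  ab3 := (l1.pow 3).eq_one hs 1 (by decide) (by decide +kernel)
  fe3 := (l3.pow 3).eq_one hs 1 (by decide) (by decide +kernel)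
  ae := eq_of_check hs (la.mul le) (le.mul la) (by decide +kernel)
  be := eq_of_check hs (lb.mul le) (le.mul lb) (by decide +kernel)
  bf := eq_of_check hs (lb.mul lf) (lf.mul lb) (by decide +kernel)
  pp := eq_of_check hs (lp.mul lp) la (by decide +kernel)
  qq := eq_of_check hs (lq.mul lq) lf (by decide +kernel)
  pe := eq_of_check hs (lp.mul le) (le.mul lp) (by decide +kernel)
  qb := eq_of_check hs (lq.mul lb) (lb.mul lq) (by decide +kernel)
  pq := eq_of_check hs (lp.mul lq) (lq.mul lp) (by decide +kernel)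
  c12 := comm_of_scalar hs l1 l2 l1i l2i (by decide +kernel)
  c34 := comm_of_scalar hs l3 l4 l3i l4i (by decide +kernel)

theorem f_ne : on .f ≠ 1 := by
  have h : LW (on .f) [gf] := lf
  exact h.ne_one 0 3 (by decide) (by decide +kernel)

theorem a_ne : on .a ≠ 1 := Cfsg.Agent.ONType.SecondTuple.a2_ne

theorem ab_ne : on .a * on .b ≠ 1 := l1.ne_one 0 8 (by decide) (by decide +kernel)

theorem fe_ne : on .f * on .e ≠ 1 := l3.ne_one 0 4 (by decide) (by decide +kernel)

theorem orderOf_conj_f (hs : IsSimpleGroup ON) (r : ON) : orderOf (r * on .f * r⁻¹) = 2 := by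
  have h1 : orderOf (on .f) = 2 := orderOf_eq_prime (by rw [pow_two, (data hs).ff]) f_ne
  have : orderOf (MulAut.conj r (on .f)) = orderOf (on .f) := MulEquiv.orderOf_eq _ _
  rw [MulAut.conj_apply] at this
  rw [this, h1]

theorem inv (hs : IsSimpleGroup ON) : Inv (on .a * on .b) (p * (on .a * on .b) * p⁻¹) (on .f * on .e)
    (q * (on .f * on .e) * q⁻¹) where
  q13 := ⟨u₁ * on .f * u₁⁻¹, orderOf_conj_f hs _,
    eq_of_check hs (((lu1.mul lf).mul lu1i).mul (l1.mul l3)) ((l1.mul l3).mul ((lu1.mul lf).mul lu1i))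
      (by decide +kernel)⟩
  q123 := ⟨u₂ * on .f * u₂⁻¹, orderOf_conj_f hs _,
    eq_of_check hs (((lu2.mul lf).mul lu2i).mul ((l1.mul l2).mul l3))
      (((l1.mul l2).mul l3).mul ((lu2.mul lf).mul lu2i)) (by decide +kernel)⟩
  q134 := by
    have ha : (on .a)⁻¹ = on .a := inv_eq_of_mul_eq_one_right (data hs).aa
    have h : LW ((on .a * u₂) * on .f * (on .a * u₂)⁻¹) ([gens 0, r2] ++ [gens 5] ++ ([r2i] ++ [gens 0])) := by
      rw [mul_inv_rev, ha]
      exact ((la.mul lu2).mul lf).mul (lu2i.mul la)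
    exact ⟨_, orderOf_conj_f hs (on .a * u₂), eq_of_check hs (h.mul ((l1.mul l3).mul l4))
      (((l1.mul l3).mul l4).mul h) (by decide +kernel)⟩
  q1234 := ⟨u₁ * on .f * u₁⁻¹, orderOf_conj_f hs _,
    eq_of_check hs (((lu1.mul lf).mul lu1i).mul (((l1.mul l2).mul l3).mul l4))
      ((((l1.mul l2).mul l3).mul l4).mul ((lu1.mul lf).mul lu1i)) (by decide +kernel)⟩

/-- Every element of order three of the presented O'Nan group commutes with an involution. -/
theorem exists_inv (hON : Cfsg.IsON ON) (x : ON) (hx : orderOf x = 3) :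
    ∃ s : ON, orderOf s = 2 ∧ s * x = x * s := by
  have hs : IsSimpleGroup ON := hON.1
  have hfin : Finite ON := Nat.finite_of_card_ne_zero (by rw [hON.2]; norm_num)
  exact (data hs).exists_inv ab_ne fe_ne a_ne f_ne (inv hs) (by rw [hON.2]; norm_num) x hx

end Cfsg.Agent.R04.ONThree
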