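import Cfsg.Agent.ONType.Hom
import Cfsg.Agent.R04.ONThree
import Cfsg.Agent.TwoFusion.ClosingPrime

/-!
# End of the O'Nan type recognition

`G` finite with elements `a, …, g` satisfying all relations of the presented O'Nan group, `f ≠ 1`,
`C_G(f) ≤ ⟨a, …, g⟩` of order 161280, and `⟨a, …, g⟩` has one class of involutions. Then `G` is the
presented O'Nan group (assuming the order and the simplicity of the presented group, `S1699`).
-/

set_option autoImplicit false

namespace Cfsg.Agent.R04.EndON

open Cfsg Cfsg.Spor Cfsg.Agent.ONType.Hom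

/-- Elements of order three commute with involutions in every group isomorphic to the presented
O'Nan group. -/
theorem exists_inv_of_iso (hON : Cfsg.IsON ON) {H : Type*} [Group H] (e : H ≃* ON) (x : H)
    (hx : orderOf x = 3) : ∃ s : H, orderOf s = 2 ∧ s * x = x * s := by
  obtain ⟨s, h1, h2⟩ := Cfsg.Agent.R04.ONThree.exists_inv hON (e x) (by rw [MulEquiv.orderOf_eq, hx])
  refine ⟨e.symm s, by rw [MulEquiv.orderOf_eq, h1], ?_⟩
  apply e.injective
  rw [map_mul, map_mul, e.apply_symm_apply, h2]

/-- Closing: a subgroup isomorphic to the presented O'Nan group which contains `C_G(t)` (of order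
161280) and has one class of involutions is everything. -/
theorem eq_top (hON : Cfsg.IsON ON) {G : Type*} [Group G] [Finite G] {t : G} (ht : orderOf t = 2)
    {H : Subgroup G} (hH : Cfsg.Spor.IsoON H) (hC : Subgroup.centralizer ({t} : Set G) ≤ H)
    (hcC : Nat.card (Subgroup.centralizer ({t} : Set G)) = 161280)
    (hone : ∀ y ∈ H, orderOf y = 2 → ∃ k ∈ H, k * t * k⁻¹ = y) : H = ⊤ := by
  obtain ⟨e⟩ := hH
  have hcard : Nat.card H = 460815505920 := by
    rw [Nat.card_congr e.toEquiv]
    exact hON.2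
  refine Cfsg.Agent.TwoFusion.ClosingPrime.eq_top_of_prime ht hC hone 3 Nat.prime_three ?_ ?_
  · have h1 : Nat.card ((Subgroup.centralizer ({t} : Set G)).subgroupOf H) = 161280 := by
      rw [← hcC]
      exact Nat.card_congr (Subgroup.subgroupOfEquivOfLe hC).toEquiv
    have h2 := Subgroup.card_mul_index ((Subgroup.centralizer ({t} : Set G)).subgroupOf H)
    rw [h1, hcard] at h2
    rw [Subgroup.relIndex]
    omega
  · intro k hk hk3
    obtain ⟨s, h1, h2⟩ := exists_inv_of_iso hON e (⟨k, hk⟩ : H)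
      (by rw [← hk3]; exact Subgroup.orderOf_mk k hk)
    refine ⟨s, s.2, ?_, congrArg Subtype.val h2⟩
    rw [Subgroup.orderOf_coe, h1]

/-- All relations from the two halves and `[b, e] = 1`. -/
theorem rel_of {G : Type*} [Group G] {a b c d e f g : G} (h1 : RelF a b c d f g) (h2 : RelF f e d c a g)
    (hbe : b * e = e * b) : Rel a b c d e f g where
  toRelF := h1
  ee := h2.bb
  de := by
    have h : (e * d) ^ 3 = 1 := h2.bc
    have h' : (d * e) ^ 3 = d * (e * d) ^ 3 * d⁻¹ := by
      rw [← conj_pow]; group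
    rw [h', h, mul_one, mul_inv_cancel]
  ef := by
    have h : (f * e) ^ 3 = 1 := h2.ab
    have h' : (e * f) ^ 3 = e * (f * e) ^ 3 * e⁻¹ := by
      rw [← conj_pow]; group
    rw [h', h, mul_one, mul_inv_cancel]
  ae := h2.bf.symm
  be := hbe
  ce := h2.bd.symm
  ge := h2.gb

theorem isoON_of (hON : Cfsg.IsON ON) {G : Type*} [Group G] [Finite G] {a b c d e f g : G}
    (h1 : RelF a b c d f g) (h2 : RelF f e d c a g) (hbe : b * e = e * b) (hf : f ≠ 1)
    (hC : Subgroup.centralizer ({f} : Set G) ≤ Subgroup.closure {a, b, c, d, e, f, g})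
    (hcC : Nat.card (Subgroup.centralizer ({f} : Set G)) = 161280)
    (hone : ∀ H : Subgroup G, Subgroup.centralizer ({f} : Set G) ≤ H → IsSimpleGroup H →
      ∀ y ∈ H, orderOf y = 2 → ∃ k ∈ H, k * f * k⁻¹ = y) : Cfsg.Spor.IsoON G := by
  have hs : IsSimpleGroup ON := hON.1
  have hH : IsoON (Subgroup.closure {a, b, c, d, e, f, g}) := isoON_closure hs (rel_of h1 h2 hbe) hf
  have hf2 : orderOf f = 2 := orderOf_eq_prime (by rw [pow_two, h1.ff]) hf
  have hsH : IsSimpleGroup (Subgroup.closure {a, b, c, d, e, f, g}) := by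
    obtain ⟨e⟩ := hH
    exact e.isSimpleGroup
  have htop := eq_top hON hf2 hH hC hcC (hone _ hC hsH)
  rw [htop] at hH
  obtain ⟨e⟩ := hH
  exact ⟨(Subgroup.topEquiv.symm : G ≃* (⊤ : Subgroup G)).trans e⟩

end Cfsg.Agent.R04.EndON
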