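import Mathlib
import Cfsg.Agent.TwoFusion.ClosingPrime
import Cfsg.Agent.Classification.Order360
import Cfsg.Agent.Classification.Order360Iso

/-!
# Elements of order 3 in a group of the order of the O'Nan group

`H` finite of order `460815505920`, `x ∈ H` of order 3 with `C_H(x) = P × L`, `P` elementary abelian
of order 9, `L` simple of order 360, an involution `s` centralising `L`; every element of order 3
commuting with an involution is conjugate to `x`. Then every element of order 3 of `H` commutes with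
an involution.
-/

set_option autoImplicit false

namespace Cfsg.Agent.R04.ClosingE

/-- the 3-local data -/
structure ThreeData {H : Type*} [Group H] (x : H) (P L : Subgroup H) (s : H) : Prop where
  ox : orderOf x = 3
  xP : x ∈ P
  cardP : Nat.card P = 9
  expP : ∀ a ∈ P, a ^ 3 = 1
  cardL : Nat.card L = 360
  simple : IsSimpleGroup L
  comm : ∀ a ∈ P, ∀ b ∈ L, a * b = b * a
  disj : P ⊓ L = ⊥
  cent : Subgroup.centralizer ({x} : Set H) = P ⊔ L
  os : orderOf s = 2
  sL : ∀ b ∈ L, s * b = b * s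
  conj : ∀ u : H, orderOf u = 3 → (∃ v : H, orderOf v = 2 ∧ v * u = u * v) → IsConj x u

variable {H : Type*} [Group H]

/-- orbit-stabiliser for conjugation by a subgroup -/
theorem ncard_conj_mul (K : Subgroup H) (u : H) :
    {y : H | ∃ k ∈ K, k * u * k⁻¹ = y}.ncard *
      Nat.card (K ⊓ Subgroup.centralizer ({u} : Set H) : Subgroup H) = Nat.card K := by
  classical
  let C := (Subgroup.centralizer ({u} : Set H)).subgroupOf K
  have hrel : ∀ a b : K, (QuotientGroup.leftRel C) a b ↔
      (a : H) * u * (a : H)⁻¹ = (b : H) * u * (b : H)⁻¹ := by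
    intro a b
    rw [QuotientGroup.leftRel_apply, Subgroup.mem_subgroupOf, Subgroup.mem_centralizer_singleton_iff]
    show (a : H)⁻¹ * (b : H) * u = u * ((a : H)⁻¹ * (b : H)) ↔ _
    constructor
    · intro h
      calc (a : H) * u * (a : H)⁻¹ = a * (u * ((a : H)⁻¹ * b)) * (b : H)⁻¹ := by group
        _ = a * ((a : H)⁻¹ * (b : H) * u) * (b : H)⁻¹ := by rw [h]
        _ = _ := by group
    · intro h
      calc (a : H)⁻¹ * (b : H) * u = (a : H)⁻¹ * ((b : H) * u * (b : H)⁻¹) * b := by group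
        _ = (a : H)⁻¹ * ((a : H) * u * (a : H)⁻¹) * b := by rw [h]
        _ = _ := by group
  have h2 : Nat.card (K ⧸ C) = {y : H | ∃ k ∈ K, k * u * k⁻¹ = y}.ncard := by
    rw [← Nat.card_coe_set_eq]
    refine Nat.card_congr (Equiv.ofBijective (fun q => Quotient.liftOn' q
      (fun a : K => (⟨(a : H) * u * (a : H)⁻¹, a, a.2, rfl⟩ : {y : H | ∃ k ∈ K, k * u * k⁻¹ = y}))
      (fun a b hab => Subtype.ext ((hrel a b).1 hab))) ⟨?_, ?_⟩)
    · rintro ⟨a⟩ ⟨b⟩ hab
      apply Quotient.sound'
      apply (hrel a b).2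
      exact congrArg Subtype.val hab
    · rintro ⟨x, k, hk, rfl⟩
      exact ⟨QuotientGroup.mk ⟨k, hk⟩, rfl⟩
  have h1 : Nat.card C = Nat.card (K ⊓ Subgroup.centralizer ({u} : Set H) : Subgroup H) := by
    refine Nat.card_congr ⟨fun c => ⟨c.1.1, c.1.2, c.2⟩, fun c => ⟨⟨c.1, c.2.1⟩, c.2.2⟩, ?_, ?_⟩
    · intro c; rfl
    · intro c; rfl
  rw [← h2, ← h1]
  exact (Subgroup.card_eq_card_quotient_mul_card_subgroup C).symm

/-- A group of prime order acting on a `3`-group of order `81` by conjugation and fixing a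
non-trivial element acts trivially, for the primes `5`, `7`, `11`, `19`, `31`. -/
theorem centralizes_of_prime [Finite H] (E : Subgroup H) (hE : Nat.card E = 81) (g k : H) (q : ℕ)
    (hq : q = 5 ∨ q = 7 ∨ q = 11 ∨ q = 19 ∨ q = 31) (hg : orderOf g = q)
    (hgE : ∀ e ∈ E, g * e * g⁻¹ ∈ E) (hk : k ∈ E) (hk1 : k ≠ 1) (hgk : g * k = k * g) :
    ∀ e ∈ E, g * e = e * g := by
  classical
  have hqp : q.Prime := by rcases hq with rfl | rfl | rfl | rfl | rfl <;> norm_num
  have : Fact q.Prime := ⟨hqp⟩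
  have hfin : Finite H := inferInstance
  -- the action of `⟨g⟩` on `E`
  have hgN : g ∈ Subgroup.normalizer (E : Set H) := Subgroup.mem_normalizer_fintype (by
    intro n hn; exact hgE n hn)
  let Z := Subgroup.zpowers g
  have hZN : Z ≤ Subgroup.normalizer (E : Set H) := by
    rw [Subgroup.zpowers_le]; exact hgN
  let act : MulAction Z E :=
    { smul := fun z e => ⟨z.1 * e.1 * z.1⁻¹, ((Subgroup.mem_normalizer_iff.1 (hZN z.2)) e.1).1 e.2⟩
      one_smul := fun e => Subtype.ext (by show (1 : H) * e.1 * (1 : H)⁻¹ = e.1; group)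
      mul_smul := fun z w e => Subtype.ext (by
        show (z.1 * w.1) * e.1 * (z.1 * w.1)⁻¹ = z.1 * (w.1 * e.1 * w.1⁻¹) * z.1⁻¹
        group) }
  have hZp : IsPGroup q Z := IsPGroup.of_card (n := 1) (by rw [pow_one, Nat.card_zpowers, hg])
  have hmod := hZp.card_modEq_card_fixedPoints (α := E)
  -- the fixed points form the centraliser
  let F : Subgroup H := E ⊓ Subgroup.centralizer ({g} : Set H)
  have hFE : F ≤ E := inf_le_left
  have hfix : Nat.card (MulAction.fixedPoints Z E) = Nat.card F := by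
    refine Nat.card_congr ⟨fun e => ⟨e.1.1, e.1.2, ?_⟩, fun e => ⟨⟨e.1, hFE e.2⟩, ?_⟩, ?_, ?_⟩
    · have h1 := e.2 ⟨g, Subgroup.mem_zpowers g⟩
      have h2 : g * e.1.1 * g⁻¹ = e.1.1 := congrArg Subtype.val h1
      show e.1.1 ∈ Subgroup.centralizer ({g} : Set H)
      rw [Subgroup.mem_centralizer_singleton_iff]
      exact (mul_inv_eq_iff_eq_mul.1 h2).symm
    · intro z
      apply Subtype.ext
      show z.1 * e.1 * z.1⁻¹ = e.1
      have h1 : e.1 * g = g * e.1 := Subgroup.mem_centralizer_singleton_iff.1 e.2.2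
      obtain ⟨n, hn⟩ := Subgroup.mem_zpowers_iff.1 z.2
      have h2 : Commute e.1 (g ^ n) := Commute.zpow_right h1 n
      rw [hn] at h2
      rw [← h2.eq]; group
    · intro e; rfl
    · intro e; rfl
  rw [hfix, hE] at hmod
  have hF3 : Nat.card F ∣ 3 ^ 4 := by
    have := Subgroup.card_dvd_of_le hFE
    rwa [hE] at this
  obtain ⟨j, hj, hj2⟩ := (Nat.dvd_prime_pow Nat.prime_three).1 hF3
  have hj0 : j ≠ 0 := by
    rintro rfl
    rw [pow_zero, Subgroup.card_eq_one] at hj2
    apply hk1
    have : k ∈ F := ⟨hk, Subgroup.mem_centralizer_singleton_iff.2 hgk.symm⟩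
    rw [hj2] at this
    exact Subgroup.mem_bot.1 this
  have hj4 : j = 4 := by
    rw [hj2] at hmod
    unfold Nat.ModEq at hmod
    rcases hq with rfl | rfl | rfl | rfl | rfl <;> interval_cases j <;> simp_all
  have hFE' : F = E := by
    apply Subgroup.eq_of_le_of_card_ge hFE
    rw [hj2, hj4, hE]; norm_num
  intro e he
  have : e ∈ F := by rw [hFE']; exact he
  exact (Subgroup.mem_centralizer_singleton_iff.1 this.2).symm

section Main

variable [Finite H] {x : H} {P L : Subgroup H} {s : H}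

/-- Sylow `3`-subgroups of a simple group of order 360 have exponent 3 -/
theorem pow_three_of_pow_nine {L : Type*} [Group L] [Finite L] [IsSimpleGroup L]
    (hL : Nat.card L = 360) (y : L) (hy : y ^ 9 = 1) : y ^ 3 = 1 := by
  obtain ⟨e⟩ := Cfsg.Agent.Classification.Order360Iso.nonempty_mulEquiv_alternating hL
  have h1 : ∀ σ : Equiv.Perm (Fin 6), σ ^ 60 = 1 := by
    intro σ
    rw [← orderOf_dvd_iff_pow_eq_one, ← Equiv.Perm.lcm_cycleType]
    rw [Multiset.lcm_dvd]
    intro b hb
    have h2 : b ≤ 6 := by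
      have := Equiv.Perm.le_card_support_of_mem_cycleType hb
      exact this.trans ((Finset.card_le_univ _).trans (by simp))
    have h3 : 2 ≤ b := Equiv.Perm.two_le_of_mem_cycleType hb
    interval_cases b <;> norm_num
  have h2 : y ^ 60 = 1 := by
    apply e.injective
    rw [map_pow, map_one]
    apply Subtype.ext
    have := h1 (e y).1
    simpa using this
  have h3 : y ^ 63 = 1 := by
    have : y ^ 63 = (y ^ 9) ^ 7 := by rw [← pow_mul]
    rw [this, hy, one_pow]
  have h4 : y ^ 63 = y ^ 60 * y ^ 3 := by rw [← pow_add]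
  rw [h3, h2, one_mul] at h4
  exact h4.symm

theorem card_sylow3_of_card_nine {L : Type*} [Group L] [Finite L] (hL : Nat.card L = 360)
    (Y : Sylow 3 L) : Nat.card Y = 9 := by
  have : Fact (Nat.Prime 3) := ⟨Nat.prime_three⟩
  rw [Sylow.card_eq_multiplicity, hL]
  have h : (360 : ℕ) = 3 ^ 2 * 40 := by norm_num
  rw [h, Nat.factorization_mul (by norm_num) (by norm_num), Nat.factorization_pow]
  simp [Nat.prime_three.factorization, Nat.factorization_eq_zero_of_not_dvd (show ¬ 3 ∣ 40 by norm_num)]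

/-- Every element of order 3 commutes with an involution. -/
theorem exists_involution (hcard : Nat.card H = 460815505920) (hD : ThreeData x P L s) (k : H)
    (hk : orderOf k = 3) : ∃ v : H, orderOf v = 2 ∧ v * k = k * v := by
  classical
  by_contra hcon
  push Not at hcon
  have h3 : Fact (Nat.Prime 3) := ⟨Nat.prime_three⟩
  have hLs : IsSimpleGroup L := hD.simple
  -- the product map
  let φ : P × L →* H := MonoidHom.noncommCoprod P.subtype L.subtype
    (fun a b => hD.comm a a.2 b b.2)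
  have hφ : ∀ p : P × L, φ p = (p.1 : H) * (p.2 : H) := fun p => rfl
  have hinj : Function.Injective φ := by
    rw [injective_iff_map_eq_one]
    rintro ⟨a, b⟩ hab
    rw [hφ] at hab
    have h1 : (a : H) = (b : H)⁻¹ := eq_inv_of_mul_eq_one_left hab
    have h2 : (a : H) ∈ P ⊓ L := ⟨a.2, by rw [h1]; exact L.inv_mem b.2⟩
    rw [hD.disj, Subgroup.mem_bot] at h2
    have h4 : (b : H) = 1 := by
      have h5 := hab
      simp only at h5
      rw [h2, one_mul] at h5
      exact h5
    exact Prod.ext (Subtype.ext h2) (Subtype.ext h4)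
  have hrange : φ.range = Subgroup.centralizer ({x} : Set H) := by
    rw [hD.cent]
    refine (MonoidHom.noncommCoprod_range P.subtype L.subtype
      (fun a b => hD.comm a a.2 b b.2)).trans ?_
    rw [Subgroup.range_subtype, Subgroup.range_subtype]
  -- Sylow subgroups
  obtain ⟨Y0⟩ : Nonempty (Sylow 3 L) := inferInstance
  have hY9 : Nat.card Y0 = 9 := card_sylow3_of_card_nine hD.cardL Y0
  let EP : Subgroup (P × L) := (⊤ : Subgroup P).prod (Y0 : Subgroup L)
  have hEPmem : ∀ p : P × L, p ∈ EP ↔ p.2 ∈ (Y0 : Subgroup L) := by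
    intro p
    rw [Subgroup.mem_prod]
    simp
  let E : Subgroup H := EP.map φ
  have hE81 : Nat.card E = 81 := by
    have h1 : Nat.card E = Nat.card EP := Nat.card_congr (EP.equivMapOfInjective φ hinj).symm.toEquiv
    have h2 : Nat.card EP = Nat.card (⊤ : Subgroup P) * Nat.card (Y0 : Subgroup L) := by
      rw [← Nat.card_prod]
      exact Nat.card_congr (Subgroup.prodEquiv _ _).toEquiv
    rw [h1, h2, Subgroup.card_top, hD.cardP]
    have h3 : Nat.card (Y0 : Subgroup L) = 9 := hY9
    rw [h3]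
  have hYc : IsMulCommutative (Y0 : Subgroup L) := by
    have h1 : Nat.card (Y0 : Subgroup L) = 3 ^ 2 := hY9
    exact IsPGroup.isMulCommutative_of_card_eq_prime_sq h1
  have hPc : IsMulCommutative P := by
    have h1 : Nat.card P = 3 ^ 2 := hD.cardP
    exact IsPGroup.isMulCommutative_of_card_eq_prime_sq h1
  have hEcomm : ∀ a ∈ E, ∀ b ∈ E, a * b = b * a := by
    rintro _ ⟨⟨a, b⟩, hab, rfl⟩ _ ⟨⟨c, d⟩, hcd, rfl⟩
    rw [← map_mul, ← map_mul]
    congr 1
    have h1 : a * c = c * a := hPc.is_comm.comm a c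
    have h2 : b * d = d * b := by
      have := hYc.is_comm.comm ⟨b, (hEPmem _).1 hab⟩ ⟨d, (hEPmem _).1 hcd⟩
      exact congrArg Subtype.val this
    exact Prod.ext h1 h2
  have hEsyl : Nat.card E = 3 ^ (Nat.card H).factorization 3 := by
    rw [hE81, hcard]
    have h : (460815505920 : ℕ) = 3 ^ 4 * 5689080320 := by norm_num
    rw [h, Nat.factorization_mul (by norm_num) (by norm_num), Nat.factorization_pow]
    simp [Nat.prime_three.factorization,
      Nat.factorization_eq_zero_of_not_dvd (show ¬ 3 ∣ 5689080320 by norm_num)]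
  let ES : Sylow 3 H := Sylow.ofCard E hEsyl
  have hES : (ES : Subgroup H) = E := rfl
  let N : Subgroup H := Subgroup.normalizer (E : Set H)
  have hEN : E ≤ N := Subgroup.le_normalizer
  have hxE : x ∈ E := ⟨(⟨x, hD.xP⟩, 1), (hEPmem _).2 (Subgroup.one_mem _), by rw [hφ]; simp⟩
  -- `|N ∩ C(x)| = 324`
  have hNCx : Nat.card (N ⊓ Subgroup.centralizer ({x} : Set H) : Subgroup H) = 324 := by
    have h1 : N ⊓ Subgroup.centralizer ({x} : Set H) =
        ((⊤ : Subgroup P).prod (Subgroup.normalizer ((Y0 : Subgroup L) : Set L))).map φ := by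
      apply le_antisymm
      · rintro n ⟨hnN, hnC⟩
        have hnC' : n ∈ φ.range := by rw [hrange]; exact hnC
        obtain ⟨⟨a, b⟩, rfl⟩ := hnC'
        refine ⟨(a, b), ?_, rfl⟩
        rw [SetLike.mem_coe, Subgroup.mem_prod]
        refine ⟨Subgroup.mem_top _, ?_⟩
        apply Subgroup.mem_normalizer_fintype
        intro y hy
        have h2 : φ (1, y) ∈ E := ⟨(1, y), (hEPmem _).2 hy, rfl⟩
        have h3 := (Subgroup.mem_normalizer_iff.1 hnN (φ (1, y))).1 h2
        rw [← map_mul, ← map_inv, ← map_mul] at h3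
        obtain ⟨w, hw, hw2⟩ := h3
        have h4 := hinj hw2
        have h5 := (hEPmem _).1 hw
        rw [h4] at h5
        exact h5
      · rintro _ ⟨⟨a, b⟩, hab, rfl⟩
        rw [SetLike.mem_coe, Subgroup.mem_prod] at hab
        refine ⟨?_, ?_⟩
        · apply Subgroup.mem_normalizer_fintype
          rintro _ ⟨⟨c, d⟩, hcd, rfl⟩
          rw [← map_mul, ← map_inv, ← map_mul]
          refine ⟨_, ?_, rfl⟩
          rw [SetLike.mem_coe, hEPmem] at hcd ⊢
          exact (Subgroup.mem_normalizer_iff.1 hab.2 d).1 hcd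
        · show φ (a, b) ∈ Subgroup.centralizer ({x} : Set H)
          rw [← hrange]
          exact ⟨_, rfl⟩
    rw [h1, Nat.card_congr (Subgroup.equivMapOfInjective _ φ hinj).symm.toEquiv,
      Nat.card_congr (Subgroup.prodEquiv _ _).toEquiv, Nat.card_prod, Subgroup.card_top, hD.cardP]
    have h2 : Nat.card (Sylow 3 L) = 10 := Cfsg.Agent.Classification.Order360.card_sylow_three hD.cardL
    rw [Y0.card_eq_index_normalizer] at h2
    have h3 := (Subgroup.normalizer ((Y0 : Subgroup L) : Set L)).card_mul_index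
    have h4 : (Subgroup.normalizer ((Y0 : Subgroup L) : Set L)).index = 10 := h2
    rw [h4, hD.cardL] at h3
    omega
  -- move `k` into `E`
  obtain ⟨k', hk'E, hk', hcon'⟩ : ∃ k' ∈ E, orderOf k' = 3 ∧
      ∀ v : H, orderOf v = 2 → v * k' ≠ k' * v := by
    have hkp : IsPGroup 3 (Subgroup.zpowers k) :=
      IsPGroup.of_card (n := 1) (by rw [pow_one, Nat.card_zpowers, hk])
    obtain ⟨Q, hQ⟩ := hkp.exists_le_sylow
    obtain ⟨g, hg⟩ := MulAction.exists_smul_eq H Q ES
    refine ⟨g * k * g⁻¹, ?_, ?_, ?_⟩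
    · have h1 : k ∈ (Q : Subgroup H) := hQ (Subgroup.mem_zpowers k)
      have h2 : g * k * g⁻¹ ∈ ((g • Q : Sylow 3 H) : Subgroup H) := by
        rw [Sylow.coe_subgroup_smul, Subgroup.mem_pointwise_smul_iff_inv_smul_mem]
        simpa [MulAut.smul_def, mul_assoc] using h1
      rw [hg] at h2
      exact h2
    · rw [Cfsg.Agent.TwoFusion.StronglyEmbeddedBasic.orderOf_conj, hk]
    · intro v hv hvk
      refine hcon (g⁻¹ * v * g) ?_ ?_
      · have := Cfsg.Agent.TwoFusion.StronglyEmbeddedBasic.orderOf_conj g⁻¹ v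
        rw [inv_inv] at this
        rw [this, hv]
      · calc g⁻¹ * v * g * k = g⁻¹ * (v * (g * k * g⁻¹)) * g := by group
          _ = g⁻¹ * ((g * k * g⁻¹) * v) * g := by rw [hvk]
          _ = _ := by group
  -- the two orbits
  set A : Set H := {y : H | ∃ n ∈ N, n * x * n⁻¹ = y} with hA
  set B : Set H := {y : H | ∃ n ∈ N, n * k' * n⁻¹ = y} with hB
  have hcA := ncard_conj_mul N x
  have hcB := ncard_conj_mul N k'
  rw [← hA, hNCx] at hcA
  rw [← hB] at hcB
  have hconjE : ∀ n ∈ N, ∀ e ∈ E, n * e * n⁻¹ ∈ E := fun n hn e he =>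
    (Subgroup.mem_normalizer_iff.1 hn e).1 he
  -- an involution of `L`
  obtain ⟨w, hw⟩ : ∃ w : L, orderOf w = 2 :=
    have : Fact (Nat.Prime 2) := ⟨Nat.prime_two⟩
    exists_prime_orderOf_dvd_card' 2 (by rw [hD.cardL]; norm_num)
  have hw2 : orderOf (w : H) = 2 := by rw [Subgroup.orderOf_coe, hw]
  have hAcomm : ∀ y ∈ A, ∃ v : H, orderOf v = 2 ∧ v * y = y * v := by
    rintro _ ⟨n, -, rfl⟩
    refine ⟨n * (w : H) * n⁻¹, by
      rw [Cfsg.Agent.TwoFusion.StronglyEmbeddedBasic.orderOf_conj, hw2], ?_⟩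
    have h1 : x * (w : H) = (w : H) * x := hD.comm x hD.xP w w.2
    calc n * (w : H) * n⁻¹ * (n * x * n⁻¹) = n * ((w : H) * x) * n⁻¹ := by group
      _ = n * (x * (w : H)) * n⁻¹ := by rw [h1]
      _ = _ := by group
  -- elements of `E` of order 3 commuting with an involution lie in `A`
  have hmemA : ∀ u ∈ E, orderOf u = 3 → (∃ v : H, orderOf v = 2 ∧ v * u = u * v) → u ∈ A := by
    intro u hu hu3 hv
    obtain ⟨c, hc⟩ := isConj_iff.1 (hD.conj u hu3 hv)
    have hEc : IsMulCommutative (ES : Subgroup H) := ⟨⟨fun a b => Subtype.ext (hEcomm a a.2 b b.2)⟩⟩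
    have h1 : c⁻¹⁻¹ * x * c⁻¹ ∈ (ES : Subgroup H) := by rw [inv_inv, hc]; exact hu
    obtain ⟨n, hn, hn2⟩ := ES.conj_eq_normalizer_conj_of_mem x c⁻¹ hxE h1
    refine ⟨n⁻¹, N.inv_mem hn, ?_⟩
    rw [inv_inv] at hn2 ⊢
    rw [← hn2, hc]
  -- 16 elements of `A`
  have hpow3 : ∀ u : H, u ^ 3 = 1 → u ≠ 1 → orderOf u = 3 := fun u h1 h2 =>
    orderOf_eq_prime h1 h2
  have hA16 : 16 ≤ A.ncard := by
    let Y' : Subgroup H := (Y0 : Subgroup L).map L.subtype
    have hY'9 : Nat.card Y' = 9 := by
      rw [← hY9]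
      exact Nat.card_congr (Subgroup.equivMapOfInjective _ _ L.subtype_injective).symm.toEquiv
    have h1 : ((P : Set H) ∪ (Y' : Set H)) ⊆ A ∪ {1} := by
      rintro u (hu | hu)
      · by_cases hu1 : u = 1
        · right; exact hu1
        · left
          refine hmemA u ⟨(⟨u, hu⟩, 1), (hEPmem _).2 (Subgroup.one_mem _), by rw [hφ]; simp⟩
            (hpow3 u (hD.expP u hu) hu1) ⟨w, hw2, (hD.comm u hu w w.2).symm⟩
      · by_cases hu1 : u = 1
        · right; exact hu1
        · left
          obtain ⟨y, hy, rfl⟩ := hu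
          have hy9 : y ^ 9 = 1 := by
            have h2 : (⟨y, hy⟩ : (Y0 : Subgroup L)) ^ Nat.card (Y0 : Subgroup L) = 1 := pow_card_eq_one'
            have h3 : Nat.card (Y0 : Subgroup L) = 9 := hY9
            rw [h3] at h2
            exact congrArg Subtype.val h2
          have hy3 := pow_three_of_pow_nine hD.cardL y hy9
          refine hmemA _ ⟨(1, y), (hEPmem _).2 hy, by rw [hφ]; simp⟩ (hpow3 _ ?_ hu1) ⟨s, hD.os, ?_⟩
          · rw [← map_pow, hy3, map_one]
          · exact hD.sL y y.2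
    have h2 : ((P : Set H) ∩ (Y' : Set H)).ncard = 1 := by
      have : ((P : Set H) ∩ (Y' : Set H)) = {1} := by
        ext u
        simp only [Set.mem_inter_iff, SetLike.mem_coe, Set.mem_singleton_iff]
        constructor
        · rintro ⟨h4, h5⟩
          have h6 : u ∈ P ⊓ L := ⟨h4, (Subgroup.map_subtype_le _) h5⟩
          rw [hD.disj] at h6
          exact Subgroup.mem_bot.1 h6
        · rintro rfl
          exact ⟨P.one_mem, Y'.one_mem⟩
      rw [this, Set.ncard_singleton]
    have h3 := Set.ncard_union_add_ncard_inter (P : Set H) (Y' : Set H) (Set.toFinite _) (Set.toFinite _)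
    have h4 : (P : Set H).ncard = 9 := by rw [← Nat.card_coe_set_eq]; exact hD.cardP
    have h5 : (Y' : Set H).ncard = 9 := by rw [← Nat.card_coe_set_eq]; exact hY'9
    rw [h2, h4, h5] at h3
    have h6 := Set.ncard_le_ncard h1 (Set.toFinite _)
    have h7 := Set.ncard_union_le A {1}
    rw [Set.ncard_singleton] at h7
    omega
  -- the stabiliser of `k'`
  have hNk : Nat.card (N ⊓ Subgroup.centralizer ({k'} : Set H) : Subgroup H) = 81 := by
    set M : Subgroup H := N ⊓ Subgroup.centralizer ({k'} : Set H) with hM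
    have hEM : E ≤ M := fun e he => ⟨hEN he, by
      show e ∈ Subgroup.centralizer ({k'} : Set H)
      rw [Subgroup.mem_centralizer_singleton_iff]
      exact hEcomm e he k' hk'E⟩
    obtain ⟨c, hc⟩ := Subgroup.card_dvd_of_le hEM
    rw [hE81] at hc
    have hMH : Nat.card M ∣ 460815505920 := by rw [← hcard]; exact Subgroup.card_subgroup_dvd_card M
    rw [hc]
    suffices h1 : c = 1 by rw [h1]
    by_contra hc1
    obtain ⟨q, hq, hqc⟩ := Nat.exists_prime_and_dvd hc1
    have hqM : q ∣ Nat.card M := hc ▸ (hqc.mul_left 81)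
    have : Fact q.Prime := ⟨hq⟩
    obtain ⟨⟨g, hgM⟩, hgq⟩ := exists_prime_orderOf_dvd_card' q hqM
    rw [Subgroup.orderOf_mk] at hgq
    have hgk : g * k' = k' * g := Subgroup.mem_centralizer_singleton_iff.1 hgM.2
    have hq2 : q ≠ 2 := by
      rintro rfl
      exact hcon' g hgq hgk
    have hq3 : q ≠ 3 := by
      rintro rfl
      have h1 : 81 * 3 ∣ 460815505920 := (Nat.mul_dvd_mul_left 81 hqc).trans (hc ▸ hMH)
      revert h1; norm_num
    have hqd : q ∣ 5689080320 := by
      have h1 : q ∣ 460815505920 := hqM.trans hMH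
      have h2 : (460815505920 : ℕ) = 81 * 5689080320 := by norm_num
      rw [h2] at h1
      rcases hq.dvd_mul.1 h1 with h3 | h3
      · exfalso
        have h4 : (81 : ℕ) = 3 ^ 4 := by norm_num
        rw [h4] at h3
        exact hq3 ((Nat.prime_dvd_prime_iff_eq hq Nat.prime_three).1 (hq.dvd_of_dvd_pow h3))
      · exact h3
    have hq5 : q = 5 ∨ q = 7 ∨ q = 11 ∨ q = 19 ∨ q = 31 := by
      have h2 : (5689080320 : ℕ) = 2 ^ 9 * (5 * (7 ^ 3 * (11 * (19 * 31)))) := by norm_num
      rw [h2] at hqd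
      rcases hq.dvd_mul.1 hqd with h3 | h3
      · exact absurd ((Nat.prime_dvd_prime_iff_eq hq Nat.prime_two).1 (hq.dvd_of_dvd_pow h3)) hq2
      rcases hq.dvd_mul.1 h3 with h3 | h3
      · left; exact (Nat.prime_dvd_prime_iff_eq hq (by norm_num)).1 h3
      rcases hq.dvd_mul.1 h3 with h3 | h3
      · right; left; exact (Nat.prime_dvd_prime_iff_eq hq (by norm_num)).1 (hq.dvd_of_dvd_pow h3)
      rcases hq.dvd_mul.1 h3 with h3 | h3
      · right; right; left; exact (Nat.prime_dvd_prime_iff_eq hq (by norm_num)).1 h3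
      rcases hq.dvd_mul.1 h3 with h3 | h3
      · right; right; right; left; exact (Nat.prime_dvd_prime_iff_eq hq (by norm_num)).1 h3
      · right; right; right; right; exact (Nat.prime_dvd_prime_iff_eq hq (by norm_num)).1 h3
    have hk'1 : k' ≠ 1 := by
      rintro rfl
      rw [orderOf_one] at hk'
      norm_num at hk'
    have hcE := centralizes_of_prime E hE81 g k' q hq5 hgq (hconjE g hgM.1) hk'E hk'1 hgk
    have hgx : g ∈ N ⊓ Subgroup.centralizer ({x} : Set H) :=
      ⟨hgM.1, Subgroup.mem_centralizer_singleton_iff.2 (hcE x hxE)⟩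
    have h1 : q ∣ 324 := by
      rw [← hNCx, ← hgq, ← Subgroup.orderOf_mk g hgx]
      exact orderOf_dvd_natCard _
    rcases hq5 with rfl | rfl | rfl | rfl | rfl <;> revert h1 <;> norm_num
  rw [hNk] at hcB
  -- the two orbits are disjoint in `E \ {1}`
  have hAE : A ⊆ (E : Set H) \ {1} := by
    rintro _ ⟨n, hn, rfl⟩
    refine ⟨hconjE n hn x hxE, ?_⟩
    intro h1
    have h2 : orderOf (n * x * n⁻¹) = 3 := by
      rw [Cfsg.Agent.TwoFusion.StronglyEmbeddedBasic.orderOf_conj, hD.ox]
    rw [Set.mem_singleton_iff.1 h1, orderOf_one] at h2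
    norm_num at h2
  have hBE : B ⊆ (E : Set H) \ {1} := by
    rintro _ ⟨n, hn, rfl⟩
    refine ⟨hconjE n hn k' hk'E, ?_⟩
    intro h1
    have h2 : orderOf (n * k' * n⁻¹) = 3 := by
      rw [Cfsg.Agent.TwoFusion.StronglyEmbeddedBasic.orderOf_conj, hk']
    rw [Set.mem_singleton_iff.1 h1, orderOf_one] at h2
    norm_num at h2
  have hAB : Disjoint A B := by
    rw [Set.disjoint_left]
    rintro y hyA ⟨n, hn, rfl⟩
    obtain ⟨v, hv, hvy⟩ := hAcomm _ hyA
    refine hcon' (n⁻¹ * v * n) ?_ ?_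
    · have := Cfsg.Agent.TwoFusion.StronglyEmbeddedBasic.orderOf_conj n⁻¹ v
      rw [inv_inv] at this
      rw [this, hv]
    · calc n⁻¹ * v * n * k' = n⁻¹ * (v * (n * k' * n⁻¹)) * n := by group
        _ = n⁻¹ * ((n * k' * n⁻¹) * v) * n := by rw [hvy]
        _ = _ := by group
  have h80 : A.ncard + B.ncard ≤ 80 := by
    have h1 : ((E : Set H) \ {1}).ncard = 80 := by
      have h2 := Set.ncard_diff_singleton_add_one (s := (E : Set H)) E.one_mem (Set.toFinite _)
      have h4 : (E : Set H).ncard = 81 := by rw [← Nat.card_coe_set_eq]; exact hE81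
      omega
    rw [← Set.ncard_union_eq hAB (Set.toFinite _) (Set.toFinite _), ← h1]
    exact Set.ncard_le_ncard (Set.union_subset hAE hBE) (Set.toFinite _)
  have hN : Nat.card N = 5184 := by omega
  -- Sylow
  have h1 : Nat.card (Sylow 3 H) ≡ 1 [MOD 3] := card_sylow_modEq_one 3 H
  have h2 : N.index = Nat.card (Sylow 3 H) := ES.card_eq_index_normalizer.symm
  have h5 := N.card_mul_index
  rw [hN, hcard, h2] at h5
  unfold Nat.ModEq at h1
  omega

end Main

/-- **Closing step of the O'Nan type.** `H ≥ C_G(t)` of the order of the O'Nan group, with one class of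
involutions and the `3`-local data of `ThreeData`; then `H = G`. -/
theorem eq_top {G : Type*} [Group G] [Finite G] {t : G} (ht : orderOf t = 2) {H : Subgroup G}
    (hC : Subgroup.centralizer ({t} : Set G) ≤ H)
    (hcC : Nat.card (Subgroup.centralizer ({t} : Set G)) = 161280)
    (hone : ∀ y ∈ H, orderOf y = 2 → ∃ g ∈ H, g * t * g⁻¹ = y)
    (hcard : Nat.card H = 460815505920) {x : H} {P L : Subgroup H} {s : H}
    (hD : ThreeData x P L s) : H = ⊤ := by
  refine Cfsg.Agent.TwoFusion.ClosingPrime.eq_top_of_prime ht hC hone 3 Nat.prime_three ?_ ?_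
  · have h1 : Nat.card ((Subgroup.centralizer ({t} : Set G)).subgroupOf H) = 161280 := by
      rw [← hcC]
      exact Nat.card_congr (Subgroup.subgroupOfEquivOfLe hC).toEquiv
    have h2 := Subgroup.card_mul_index ((Subgroup.centralizer ({t} : Set G)).subgroupOf H)
    rw [h1, hcard] at h2
    rw [Subgroup.relIndex]
    omega
  · intro k hk hk3
    obtain ⟨v, hv, hvk⟩ := exists_involution hcard hD ⟨k, hk⟩ (by rw [Subgroup.orderOf_mk]; exact hk3)
    refine ⟨v, v.2, by rw [Subgroup.orderOf_coe, hv], ?_⟩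
    exact congrArg Subtype.val hvk

end Cfsg.Agent.R04.ClosingE
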